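import Groth.Agent.S9678
import Groth.Agent.Misc15.GenericPoints
import Groth.Agent.AlgSpLib.OnePointFlat
import Groth.Agent.FlatMorLocalStr.SmoothFibres
import Groth.Agent.AlgSpLib.BiratOpen

/-!
# A finite morphism bijective on generic points with trivial residue extensions
-/

set_option autoImplicit false
set_option backward.isDefEq.respectTransparency.types false

universe u

open CategoryTheory CategoryTheory.Limits AlgebraicGeometry TopologicalSpace IsLocalRing

namespace Groth.Agent.Ordinary24

theorem isIso_stalkMap_of_generic {X Y : Scheme.{u}} [IsReduced X] [IsReduced Y] (f : Y ⟶ X) (y : Y)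
    (hy : closure ({y} : Set Y) ∈ irreducibleComponents (Y : Type u))
    (hfy : closure ({f y} : Set X) ∈ irreducibleComponents (X : Type u))
    (hres : Function.Bijective (f.residueFieldMap y).hom) : IsIso (f.stalkMap y) := by
  have hA := AlgSpLib.isField_stalk_of_maximal (f y) ((Misc15.closure_mem_components_iff _).1 hfy)
  have hB := AlgSpLib.isField_stalk_of_maximal y ((Misc15.closure_mem_components_iff _).1 hy)
  letI := hA.toField
  letI := hB.toField
  refine (ConcreteCategory.isIso_iff_bijective _).2 ⟨RingHom.injective (f.stalkMap y).hom, fun b => ?_⟩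
  obtain ⟨c, hc⟩ := hres.2 (Y.residue y b)
  obtain ⟨a, rfl⟩ := X.residue_surjective (f y) c
  refine ⟨a, RingHom.injective (Y.residue y).hom ?_⟩
  exact (congr($(Scheme.residue_residueFieldMap f y).hom a)).symm.trans hc

/-- A finite morphism bijective on generic points with trivial residue extensions is an isomorphism
over a dense open with dense preimage. -/
theorem exists_dense_iso {X Y : Scheme.{u}} [IsReduced X] [IsReduced Y] (f : Y ⟶ X) [IsFinite f]
    (hX : (irreducibleComponents (X : Type u)).Finite) (hY : (irreducibleComponents (Y : Type u)).Finite)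
    (hbij : Set.BijOn (fun y : Y => f y) {y : Y | closure ({y} : Set Y) ∈ irreducibleComponents (Y : Type u)}
      {x : X | closure ({x} : Set X) ∈ irreducibleComponents (X : Type u)})
    (hres : ∀ y : Y, closure ({y} : Set Y) ∈ irreducibleComponents (Y : Type u) →
      Function.Bijective (f.residueFieldMap y).hom) :
    ∃ U : X.Opens, Dense (U : Set X) ∧ Dense ((f ⁻¹ᵁ U : Y.Opens) : Set Y) ∧ IsIso (f ∣_ U) := by
  obtain ⟨U, V, hUV, hU, hV, hres'⟩ := S9678.result f hY hX hbij
    (fun y hy => isIso_stalkMap_of_generic f y hy (hbij.mapsTo hy) (hres y hy)) (Or.inl ⟨inferInstance, inferInstance⟩)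
  let V' : X.Opens := V ⊓ ⟨(f '' (U : Set Y)ᶜ)ᶜ, (f.isClosedMap _ U.2.isClosed_compl).isOpen_compl⟩
  have hsub : f ⁻¹ᵁ V' ≤ U := fun y hy => by_contra fun h => hy.2 ⟨y, h, rfl⟩
  have huniq : ∀ y y' : Y, closure ({f y'} : Set X) ∈ irreducibleComponents (X : Type u) → f y = f y' →
      closure ({y'} : Set Y) ∈ irreducibleComponents (Y : Type u) → y = y' := by
    intro y y' hx he hy'
    obtain ⟨w, hw, hwy⟩ := Misc15.exists_generic_specializes y
    have h1 : f w = f y' := (Misc15.closure_mem_components_iff _).1 hx _ (he ▸ hwy.map f.continuous)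
    obtain rfl : w = y' := hbij.injOn hw hy' h1
    by_contra hne
    haveI : DiscreteTopology (f ⁻¹' {f w}) := (f.isDiscrete_preimage_singleton (f w)).to_subtype
    have := (subtype_specializes_iff (⟨w, rfl⟩ : f ⁻¹' {f w}) (⟨y, he⟩ : f ⁻¹' {f w})).2 hwy
    exact hne (congrArg Subtype.val this.eq).symm
  have hgen : ∀ x : X, closure ({x} : Set X) ∈ irreducibleComponents (X : Type u) → x ∈ V' := by
    intro x hx
    refine ⟨AlgSpLib.Birat.mem_of_dense hX hV hx, ?_⟩
    rintro ⟨y, hy, rfl⟩
    obtain ⟨y', hy', he⟩ := hbij.surjOn hx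
    simp only at he
    refine hy ?_
    rw [huniq y y' (he ▸ hx) he.symm hy']
    exact AlgSpLib.Birat.mem_of_dense hY hU hy'
  refine ⟨V', Misc15.dense_of_generic_mem hX hgen,
    Misc15.dense_of_generic_mem hY fun y hy => hgen _ (hbij.mapsTo hy), ?_⟩
  haveI := hres'
  have hV'V : V' ≤ V := inf_le_left
  haveI hoi : IsOpenImmersion ((f ∣_ V') ≫ V'.ι) := by
    rw [morphismRestrict_ι, ← Y.homOfLE_ι hsub, Category.assoc, ← Scheme.Hom.resLE_comp_ι f hUV]
    infer_instance
  haveI : IsOpenImmersion (f ∣_ V') := IsOpenImmersion.of_comp _ V'.ι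
  haveI : Surjective (f ∣_ V') := ⟨fun z => by
    obtain ⟨w, hw⟩ := (inferInstance : Surjective (f.resLE V U hUV)).1 ⟨z.1, hV'V z.2⟩
    have hfw : f w.1 = z.1 := (congr($(Scheme.Hom.resLE_comp_ι f hUV) w)).symm.trans (congrArg Subtype.val hw)
    exact ⟨⟨w.1, show f w.1 ∈ V' from hfw ▸ z.2⟩, Subtype.ext ((morphismRestrict_base_coe f V' _).trans hfw)⟩⟩
  exact (isIso_iff_isOpenImmersion_and_surjective _).2 ⟨inferInstance, inferInstance⟩

theorem connectedComponent_eq_of_normal {Y : Scheme.{u}} [IsLocallyNoetherian Y] (hY : Pi1.IsNormalScheme Y)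
    (y : Y) : connectedComponent y = irreducibleComponent y := by
  refine Set.Subset.antisymm (IsClopen.connectedComponent_subset
    ⟨isClosed_irreducibleComponent,
      NeronLib.isOpen_component_of_normal hY (irreducibleComponent_mem_irreducibleComponents y)⟩
    mem_irreducibleComponent) ?_
  exact isIrreducible_irreducibleComponent.isConnected.subset_connectedComponent mem_irreducibleComponent

theorem card_connectedComponents_of_normal {Y : Scheme.{u}} [IsLocallyNoetherian Y] (hY : Pi1.IsNormalScheme Y) :
    Nat.card (_root_.ConnectedComponents Y) = Nat.card (irreducibleComponents (Y : Type u)) := by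
  let Φ : irreducibleComponents (Y : Type u) → _root_.ConnectedComponents Y :=
    fun Z => _root_.ConnectedComponents.mk Z.2.1.nonempty.some
  have hZ : ∀ (Z : irreducibleComponents (Y : Type u)) (y : Y), y ∈ Z.1 → connectedComponent y = Z.1 := by
    intro Z y hy
    have hsub : Z.1 ⊆ connectedComponent y := Z.2.1.isConnected.subset_connectedComponent hy
    rw [connectedComponent_eq_of_normal hY] at hsub ⊢
    exact (Z.2.2 isIrreducible_irreducibleComponent hsub).antisymm hsub
  refine (Nat.card_eq_of_bijective Φ ⟨fun Z Z' h => Subtype.ext ?_, fun c => ?_⟩).symm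
  · rw [← hZ Z _ Z.2.1.nonempty.some_mem, ← hZ Z' _ Z'.2.1.nonempty.some_mem]
    exact _root_.ConnectedComponents.coe_eq_coe.1 h
  · obtain ⟨y, rfl⟩ := _root_.ConnectedComponents.surjective_coe c
    refine ⟨⟨_, irreducibleComponent_mem_irreducibleComponents y⟩, _root_.ConnectedComponents.coe_eq_coe.2 ?_⟩
    rw [hZ ⟨_, irreducibleComponent_mem_irreducibleComponents y⟩ _ (Set.Nonempty.some_mem _)]
    exact (connectedComponent_eq_of_normal hY y).symm

theorem card_components_of_bijOn {X Y : Scheme.{u}} (g : Y → X)
    (hbij : Set.BijOn g {y : Y | closure ({y} : Set Y) ∈ irreducibleComponents (Y : Type u)}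
      {x : X | closure ({x} : Set X) ∈ irreducibleComponents (X : Type u)}) :
    Nat.card (irreducibleComponents (Y : Type u)) = Nat.card (irreducibleComponents (X : Type u)) := by
  have key : ∀ (Z : Scheme.{u}), Nat.card (irreducibleComponents (Z : Type u)) =
      Nat.card {z : Z // closure ({z} : Set Z) ∈ irreducibleComponents (Z : Type u)} := fun Z =>
    (Nat.card_eq_of_bijective
      (fun z : {z : Z // closure ({z} : Set Z) ∈ irreducibleComponents (Z : Type u)} =>
        (⟨closure ({z.1} : Set Z), z.2⟩ : irreducibleComponents (Z : Type u)))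
      ⟨fun a b h => Subtype.ext (((specializes_iff_closure_subset.2 (congrArg Subtype.val h).ge).antisymm (specializes_iff_closure_subset.2 (congrArg Subtype.val h).le)).eq), fun S => by
        have hg := S.2.1.isGenericPoint_genericPoint (isClosed_of_mem_irreducibleComponents S.1 S.2)
        exact ⟨⟨_, (show closure _ = S.1 from hg).symm ▸ S.2⟩, Subtype.ext hg⟩⟩).symm
  rw [key, key]
  exact Nat.card_congr (hbij.equiv g)


end Groth.Agent.Ordinary24
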