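import Groth.Agent.CAlgH.BranchesExtended
import Groth.Agent.S7652
import Groth.Agent.S7655
import Groth.Agent.NormSeq24.GenusCount

/-!
# Branches against the delta invariant
-/

set_option autoImplicit false
set_option backward.isDefEq.respectTransparency.types false

universe u

open CategoryTheory CategoryTheory.Limits AlgebraicGeometry IsLocalRing

namespace Groth.Agent.Ordinary24

theorem numBranches_le_numGeomBranches (A : Type u) [CommRing A] [IsLocalRing A] :
    Brnch.numBranches A ≤ Brnch.numGeomBranches A := by
  classical
  unfold Brnch.numBranches Brnch.numGeomBranches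
  by_cases h : (minimalPrimes A).Finite
  · rw [if_pos h, if_pos h]
    exact ENat.card_le_card_of_injective
      (f := fun m => (⟨m, (CAlgH.BranchesExtended.emb_key A m).1.some⟩ : Σ m', Brnch.Emb A m'))
      fun a b e => congrArg Sigma.fst e
  · rw [if_neg h, if_neg h]

theorem one_le_numBranches (A : Type u) [CommRing A] [IsLocalRing A] : 1 ≤ Brnch.numBranches A := by
  classical
  unfold Brnch.numBranches
  by_cases h : (minimalPrimes A).Finite
  · rw [if_pos h]
    haveI : Nontrivial (CAlg2.red A) := Ideal.Quotient.nontrivial_iff.mpr fun h =>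
      not_isUnit_zero (M₀ := A) (by
        obtain ⟨n, hn⟩ := (h.symm ▸ Submodule.mem_top : (1 : A) ∈ nilradical A)
        rw [one_pow] at hn
        exact hn ▸ isUnit_one)
    haveI : Nontrivial (CAlg2.normRed A) :=
      (show Function.Injective (algebraMap (CAlg2.red A) (CAlg2.normRed A)) from fun a b e =>
        IsFractionRing.injective (CAlg2.red A) (FractionRing (CAlg2.red A))
          (congrArg Subtype.val e)).nontrivial
    exact (ENat.one_le_card_iff_nonempty _).2 inferInstance
  · rw [if_neg h]; exact le_top

/-- At a closed point of a reduced curve: finitely many branches, at most `δ + 1`. -/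
theorem branches_facts (k : Type u) [Field k] (C : Scheme.{u}) [C.Over (Spec (CommRingCat.of k))]
    [IsProper (C ↘ Spec (CommRingCat.of k))] [IsReduced C]
    (hdim : ∀ Z ∈ irreducibleComponents (C : Type u), topologicalKrullDim Z = 1) (x : C)
    (hx : IsClosed ({x} : Set C)) :
    1 ≤ Brnch.numBranchesAt C x ∧ Brnch.numBranchesAt C x ≤ Curv2.deltaInv (C.presheaf.stalk x) + 1 ∧
      Curv2.deltaInv (C.presheaf.stalk x) < ⊤ := by
  haveI := NodeLib7.isNoetherianRing_stalk k C x
  have hd1 : ringKrullDim (C.presheaf.stalk x) = 1 := by
    refine le_antisymm ((EGA4Dim6.stalk_dim_le_dim x).trans (NormSeq24.dim_le_one hdim)) ?_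
    by_contra hlt
    rw [not_le] at hlt
    haveI : Ring.KrullDimLE 0 (C.presheaf.stalk x) :=
      Ring.krullDimLE_iff.2 (ENat.WithBot.lt_add_one_iff.1 (by simpa using hlt))
    haveI : IsArtinianRing (C.presheaf.stalk x) := isArtinianRing_iff_krullDimLE_zero.2 inferInstance
    exact NodeLib7.not_isField_stalk hdim hx (IsArtinianRing.isField_of_isReduced_of_isLocalRing _)
  have hN := EGA43.DeltaBaseChange.isNagata_stalk k C x
  exact ⟨one_le_numBranches _, (numBranches_le_numGeomBranches _).trans (S7655.result _ hN hd1),
    (S7652.result _ hN hd1).2.2⟩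

end Groth.Agent.Ordinary24
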